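import Mathlib
import Groth.Agent.Unibranch.Rad

/-!
# Closed points of the generic fibre over a valuation ring, specialising to a given closed point

For a domain `B` of finite type over a valuation ring `W` which is not a field, a maximal ideal `Q`
over the maximal ideal of `W` and `h ≠ 0`, there is a prime `q ≤ Q` not containing `h` with
`q ∩ W = ⊥` and `B/q` algebraic over `W` (Noether normalisation of the special fibre, Zariski's main
theorem, going down over the normal ring `W[T]`).
-/

universe u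

open Polynomial IsLocalRing

namespace Groth.Agent.SpecDense

set_option autoImplicit false

/-- The residue field of a valuation subring of an algebraically closed field is algebraically
closed. -/
theorem isAlgClosed_residue {L : Type u} [Field L] [IsAlgClosed L] (A : ValuationSubring L) :
    IsAlgClosed (ResidueField A) := by
  refine IsAlgClosed.of_exists_root _ fun p hm hirr => ?_
  have hlift : p ∈ Polynomial.lifts (residue A) :=
    (Polynomial.lifts_iff_coeff_lifts p).mpr fun n => residue_surjective (p.coeff n)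
  obtain ⟨q, hq, hdeg, hqm⟩ := Polynomial.lifts_and_degree_eq_and_monic hlift hm
  have hne : (q.map A.subtype).degree ≠ 0 := by
    rw [hqm.degree_map, hdeg]
    exact hirr.degree_pos.ne'
  obtain ⟨z, hz⟩ := IsAlgClosed.exists_root _ hne
  have hint : IsIntegral A z := ⟨q, hqm, by rw [← eval_map]; exact hz⟩
  obtain ⟨z₀, hz₀⟩ := IsIntegrallyClosed.isIntegral_iff.mp hint
  refine ⟨residue A z₀, ?_⟩
  have h0 : q.eval z₀ = 0 := by
    apply Subtype.val_injective
    have := hz
    rw [IsRoot.def, ← hz₀] at this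
    rw [eval_map] at this
    change A.subtype (q.eval z₀) = 0
    rw [← Polynomial.eval₂_at_apply]
    exact this
  rw [← hq, eval_map, ← Polynomial.eval₂_id (p := q)] at *
  rw [Polynomial.eval₂_at_apply, ← Polynomial.eval₂_id (p := q), h0, map_zero]

/-- In a valuation ring a nonzero polynomial is a constant times a primitive one. -/
theorem exists_primitive_part {W : Type u} {σ : Type*} [CommRing W] [IsDomain W] [ValuationRing W]
    (f : MvPolynomial σ W) (hf : f ≠ 0) :
    ∃ (c : W) (f₀ : MvPolynomial σ W), c ≠ 0 ∧ f = MvPolynomial.C c * f₀ ∧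
      MvPolynomial.map (residue W) f₀ ≠ 0 := by
  classical
  have key : ∀ s : Finset (σ →₀ ℕ), s.Nonempty →
      ∃ i ∈ s, ∀ j ∈ s, MvPolynomial.coeff i f ∣ MvPolynomial.coeff j f := by
    intro s hs
    induction hs using Finset.Nonempty.cons_induction with
    | singleton a => exact ⟨a, by simp, by simp⟩
    | cons a s has hs ih =>
      obtain ⟨i, hi, h⟩ := ih
      rcases ValuationRing.dvd_total (MvPolynomial.coeff a f) (MvPolynomial.coeff i f) with h' | h'
      · exact ⟨a, Finset.mem_cons_self _ _, fun j hj => (Finset.mem_cons.mp hj).elim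
          (fun e => e ▸ dvd_rfl) fun hj => h'.trans (h j hj)⟩
      · exact ⟨i, Finset.mem_cons_of_mem hi, fun j hj => (Finset.mem_cons.mp hj).elim
          (fun e => e ▸ h') (h j)⟩
  obtain ⟨i, hi, h⟩ := key f.support (MvPolynomial.support_nonempty.mpr hf)
  have hc : MvPolynomial.coeff i f ≠ 0 := MvPolynomial.mem_support_iff.mp hi
  have hdvd : MvPolynomial.C (MvPolynomial.coeff i f) ∣ f := by
    rw [MvPolynomial.C_dvd_iff_dvd_coeff]
    intro j
    by_cases hj : j ∈ f.support
    · exact h j hj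
    · rw [MvPolynomial.notMem_support_iff.mp hj]; exact dvd_zero _
  obtain ⟨f₀, hf₀⟩ := hdvd
  refine ⟨_, f₀, hc, hf₀, fun h0 => ?_⟩
  have e := congrArg (MvPolynomial.coeff i) hf₀
  rw [MvPolynomial.coeff_C_mul] at e
  have e1 : MvPolynomial.coeff i f₀ = 1 := (mul_eq_left₀ hc).mp e.symm
  have := congrArg (MvPolynomial.coeff i) h0
  rw [MvPolynomial.coeff_map, e1, map_one, MvPolynomial.coeff_zero] at this
  exact one_ne_zero this

/-- An element `b` of a domain with `r ^ m * b` and `r ≠ 0` algebraic is algebraic. -/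
theorem isAlgebraic_of_pow_mul {W D : Type u} [CommRing W] [IsDomain W] [CommRing D] [IsDomain D]
    [Algebra W D] {r b : D} (hr0 : r ≠ 0) (hr : IsAlgebraic W r) (m : ℕ)
    (hb : IsAlgebraic W (r ^ m * b)) : IsAlgebraic W b :=
  IsAlgebraic.of_mul (mem_nonZeroDivisors_of_ne_zero (pow_ne_zero m hr0)) (hr.pow m) hb

/-- The prime of `B` above a prime `qC` of a subalgebra `C` with `C_r = B_r`. -/
theorem exists_prime_over_of_denominator {B : Type u} [CommRing B] (C : Subring B) (r : B)
    (hr : r ∈ C) (hden : ∀ b : B, ∃ m : ℕ, r ^ m * b ∈ C) (qC : Ideal C) [qC.IsPrime]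
    (hrq : (⟨r, hr⟩ : C) ∉ qC) :
    ∃ q : Ideal B, q.IsPrime ∧ q.comap C.subtype = qC ∧
      ∀ b ∈ q, ∃ (m : ℕ) (c : C), c ∈ qC ∧ (c : B) = r ^ m * b := by
  have indep : ∀ (b : B) (m n : ℕ) (hm : r ^ m * b ∈ C) (hn : r ^ n * b ∈ C),
      (⟨_, hm⟩ : C) ∈ qC → (⟨_, hn⟩ : C) ∈ qC := by
    intro b m n hm hn h
    have e : (⟨r, hr⟩ : C) ^ m * ⟨_, hn⟩ = (⟨r, hr⟩ : C) ^ n * ⟨_, hm⟩ := by
      apply Subtype.ext
      push_cast
      ring
    have : (⟨r, hr⟩ : C) ^ m * ⟨_, hn⟩ ∈ qC := e ▸ qC.mul_mem_left _ h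
    exact ((‹qC.IsPrime›.mem_or_mem this).resolve_left fun h' =>
      hrq (‹qC.IsPrime›.mem_of_pow_mem _ h'))
  let q : Ideal B :=
    { carrier := {b | ∃ (m : ℕ) (hm : r ^ m * b ∈ C), (⟨_, hm⟩ : C) ∈ qC}
      zero_mem' := ⟨0, by simp, by
        convert qC.zero_mem using 1
        apply Subtype.ext
        simp⟩
      add_mem' := by
        rintro a b ⟨m, hm, ha⟩ ⟨n, hn, hb⟩
        have hc : r ^ (m + n) * (a + b) ∈ C := by
          rw [show r ^ (m + n) * (a + b) = r ^ n * (r ^ m * a) + r ^ m * (r ^ n * b) by ring]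
          exact C.add_mem (C.mul_mem (C.pow_mem hr _) hm) (C.mul_mem (C.pow_mem hr _) hn)
        refine ⟨m + n, hc, ?_⟩
        have e : (⟨_, hc⟩ : C) = (⟨r, hr⟩ : C) ^ n * ⟨_, hm⟩ + (⟨r, hr⟩ : C) ^ m * ⟨_, hn⟩ := by
          apply Subtype.ext
          push_cast
          ring
        rw [e]
        exact qC.add_mem (qC.mul_mem_left _ ha) (qC.mul_mem_left _ hb)
      smul_mem' := by
        rintro c b ⟨m, hm, hb⟩
        obtain ⟨n, hn⟩ := hden c
        have hc : r ^ (n + m) * (c • b) ∈ C := by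
          rw [show r ^ (n + m) * (c • b) = (r ^ n * c) * (r ^ m * b) by
            rw [smul_eq_mul]; ring]
          exact C.mul_mem hn hm
        refine ⟨n + m, hc, ?_⟩
        have e : (⟨_, hc⟩ : C) = ⟨_, hn⟩ * ⟨_, hm⟩ := by
          apply Subtype.ext
          push_cast
          rw [smul_eq_mul]
          ring
        rw [e]
        exact qC.mul_mem_left _ hb }
  have hcomap : q.comap C.subtype = qC := by
    ext c
    refine ⟨fun ⟨m, hm, h⟩ => ?_, fun h => ⟨0, by simp, by
      convert h using 1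
      apply Subtype.ext
      simp⟩⟩
    have h' := indep (c : B) m 0 hm (by simp) h
    convert h' using 1
    apply Subtype.ext
    simp
  refine ⟨q, ⟨fun h => ?_, fun {a b} h => ?_⟩, hcomap, fun b ⟨m, hm, h⟩ => ⟨m, ⟨_, hm⟩, h, rfl⟩⟩
  · refine ‹qC.IsPrime›.ne_top ?_
    rw [← hcomap, h, Ideal.comap_top]
  · obtain ⟨k, hk, hab⟩ := h
    obtain ⟨m, hm⟩ := hden a
    obtain ⟨n, hn⟩ := hden b
    have hab' : r ^ (m + n) * (a * b) ∈ C := by
      rw [show r ^ (m + n) * (a * b) = (r ^ m * a) * (r ^ n * b) by ring]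
      exact C.mul_mem hm hn
    have h2 := indep (a * b) k (m + n) hk hab' hab
    have e : (⟨_, hab'⟩ : C) = ⟨_, hm⟩ * ⟨_, hn⟩ := by
      apply Subtype.ext
      push_cast
      ring
    rw [e] at h2
    rcases ‹qC.IsPrime›.mem_or_mem h2 with h | h
    · exact Or.inl ⟨m, hm, h⟩
    · exact Or.inr ⟨n, hn, h⟩

end Groth.Agent.SpecDense
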