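import Groth.Agent.SpecDense.Core

/-!
# Closed points of a generic fibre specialising to a given closed point of a special fibre (rings)
-/

universe u

open IsLocalRing

namespace Groth.Agent.SpecDense

set_option autoImplicit false

set_option synthInstance.maxHeartbeats 200000 in
set_option maxHeartbeats 1600000 in
/-- The case of domains. -/
theorem exists_closed_between_domain (A B : Type u) [CommRing A] [IsDomain A] [CommRing B]
    [IsDomain B] [Algebra A B] [FaithfulSMul A B] [Algebra.FiniteType A B] (Q' : Ideal B)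
    [Q'.IsPrime] (hne : Q'.comap (algebraMap A B) ≠ ⊥)
    (hmax : ∀ R : Ideal B, R.IsPrime → Q' ≤ R →
      R.comap (algebraMap A B) = Q'.comap (algebraMap A B) → R = Q')
    (h : B) (hh : h ≠ 0) :
    ∃ Q₁ : Ideal B, Q₁.IsPrime ∧ Q₁ ≤ Q' ∧ h ∉ Q₁ ∧ Q₁.comap (algebraMap A B) = ⊥ ∧
      ∀ R : Ideal B, R.IsPrime → Q₁ ≤ R → R.comap (algebraMap A B) = ⊥ → R = Q₁ := by
  classical
  let L := FractionRing B
  have hB : Function.Injective (algebraMap B L) := IsFractionRing.injective B L
  -- a valuation ring of `L` dominating the local ring at `Q'`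
  let l : Localization.AtPrime Q' →+* L :=
    IsLocalization.lift (M := Q'.primeCompl) (g := algebraMap B L) fun y =>
      isUnit_iff_ne_zero.mpr fun e => y.2 (by
        rw [hB (e.trans (map_zero _).symm)]; exact Q'.zero_mem)
  obtain ⟨V, hV, hVloc⟩ := IsLocalRing.exists_factor_valuationRing l
  have hBV : ∀ b : B, algebraMap B L b ∈ V := fun b => by
    have := hV (algebraMap B (Localization.AtPrime Q') b)
    rwa [IsLocalization.lift_eq] at this
  have hmV : ∀ b : B, (⟨_, hBV b⟩ : V) ∈ maximalIdeal V ↔ b ∈ Q' := fun b => by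
    haveI := hVloc
    rw [← IsLocalization.AtPrime.to_map_mem_maximal_iff (Localization.AtPrime Q') Q' b,
      mem_maximalIdeal, mem_maximalIdeal, mem_nonunits_iff, mem_nonunits_iff]
    refine not_congr ?_
    rw [← isUnit_map_iff (l.codRestrict V.toSubring hV)
      (algebraMap B (Localization.AtPrime Q') b)]
    congr! 1
    exact Subtype.ext (IsLocalization.lift_eq _ b).symm
  -- the valuation ring of the field of fractions of the base
  let φ : A →+* L := (algebraMap B L).comp (algebraMap A B)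
  have hφ : Function.Injective φ := hB.comp (FaithfulSMul.algebraMap_injective A B)
  let K : Subfield L := Subfield.closure (φ.range : Set L)
  let Wv : ValuationSubring K := V.comap K.subtype
  have hAK : ∀ a, φ a ∈ K := fun a => Subfield.subset_closure ⟨a, rfl⟩
  let ιA : A →+* Wv :=
    { toFun := fun a => ⟨⟨φ a, hAK a⟩, hBV _⟩
      map_one' := Subtype.ext (Subtype.ext (map_one φ))
      map_mul' := fun x y => Subtype.ext (Subtype.ext (map_mul φ x y))
      map_zero' := Subtype.ext (Subtype.ext (map_zero φ))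
      map_add' := fun x y => Subtype.ext (Subtype.ext (map_add φ x y)) }
  letI : Algebra A Wv := ιA.toAlgebra
  letI : Algebra Wv L := (K.subtype.comp Wv.subtype).toAlgebra
  haveI : IsScalarTower A B L := IsScalarTower.of_algebraMap_eq fun _ => rfl
  haveI : IsScalarTower A Wv L := IsScalarTower.of_algebraMap_eq fun a =>
    IsScalarTower.algebraMap_apply A B L a
  have hWL : Function.Injective (algebraMap Wv L) :=
    K.subtype.injective.comp Subtype.val_injective
  have hWV : ∀ w : Wv, algebraMap Wv L w ∈ V := fun w => w.2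
  let ιW : Wv →+* V := (algebraMap Wv L).codRestrict V.toSubring hWV
  have hιW : IsLocalHom ιW := ⟨fun w hw => by
    obtain ⟨v, hv⟩ := hw.exists_right_inv
    have hv' : algebraMap Wv L w * (v : L) = 1 := congrArg Subtype.val hv
    have hmem : (v : L) ∈ K := by
      rw [eq_inv_of_mul_eq_one_right hv']
      exact K.inv_mem (w : K).2
    refine IsUnit.of_mul_eq_one ⟨⟨(v : L), hmem⟩, v.2⟩ (hWL ?_)
    rw [map_mul, map_one]
    exact hv'⟩
  have hmW : ∀ a : A, algebraMap A Wv a ∈ maximalIdeal Wv ↔ algebraMap A B a ∈ Q' := fun a => by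
    rw [← hmV, mem_maximalIdeal, mem_maximalIdeal, mem_nonunits_iff, mem_nonunits_iff,
      ← isUnit_map_iff ιW]
    rfl
  have hWbot : maximalIdeal Wv ≠ ⊥ := fun e => by
    obtain ⟨a, ha, ha0⟩ := Submodule.exists_mem_ne_zero_of_ne_bot hne
    have := (hmW a).mpr ha
    rw [e, Ideal.mem_bot] at this
    exact ha0 (hφ ((congrArg (fun w : Wv => ((w : K) : L)) this).trans (map_zero φ).symm))
  -- the algebra generated over the valuation ring
  obtain ⟨s, hs⟩ := ‹Algebra.FiniteType A B›.out
  let B' : Subalgebra Wv L := Algebra.adjoin Wv (↑(s.image (algebraMap B L)) : Set L)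
  have hBB' : ∀ b : B, algebraMap B L b ∈ B' := fun b => by
    have : b ∈ Algebra.adjoin A (s : Set B) := hs ▸ Algebra.mem_top
    induction this using Algebra.adjoin_induction with
    | mem x hx =>
      exact Algebra.subset_adjoin (Finset.mem_coe.mpr (Finset.mem_image_of_mem _ hx))
    | algebraMap a =>
      rw [← IsScalarTower.algebraMap_apply A B L, IsScalarTower.algebraMap_apply A Wv L]
      exact B'.algebraMap_mem _
    | add x y _ _ hx hy => rw [map_add]; exact B'.add_mem hx hy
    | mul x y _ _ hx hy => rw [map_mul]; exact B'.mul_mem hx hy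
  haveI : Algebra.FiniteType Wv B' :=
    (Subalgebra.fg_iff_finiteType B').mp ⟨_, rfl⟩
  haveI : FaithfulSMul Wv B' := (faithfulSMul_iff_algebraMap_injective _ _).mpr
    fun x y e => hWL (congrArg (fun z : B' => (z : L)) e)
  let j : B →+* B' := (algebraMap B L).codRestrict B'.toSubring hBB'
  have hB'V' : ∀ z ∈ B', z ∈ V := fun z hz => by
    induction hz using Algebra.adjoin_induction with
    | mem x hx =>
      obtain ⟨b, _, rfl⟩ := Finset.mem_image.mp (Finset.mem_coe.mp hx)
      exact hBV b
    | algebraMap w => exact hWV w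
    | add x y _ _ hx hy => exact V.add_mem _ _ hx hy
    | mul x y _ _ hx hy => exact V.mul_mem _ _ hx hy
  have hB'V : ∀ z : B', (z : L) ∈ V := fun z => hB'V' _ z.2
  let ιB : B' →+* V := B'.val.toRingHom.codRestrict V.toSubring hB'V
  let Q₀ : Ideal B' := (maximalIdeal V).comap ιB
  obtain ⟨Q'', hQ'', hle⟩ := Q₀.exists_le_maximal (Ideal.comap_ne_top _ (maximalIdeal.isMaximal V).ne_top)
  have hQW : Q''.comap (algebraMap Wv B') = maximalIdeal Wv := by
    refine ((maximalIdeal.isMaximal Wv).eq_of_le (Ideal.comap_ne_top _ hQ''.ne_top) ?_).symm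
    intro w hw
    refine Ideal.mem_comap.mpr (hle ?_)
    haveI := hιW
    exact map_nonunit ιW w hw
  have hjA : ∀ a, j (algebraMap A B a) = algebraMap Wv B' (algebraMap A Wv a) := fun a =>
    Subtype.ext rfl
  have hQ'eq : Q''.comap j = Q' := by
    refine hmax _ (Ideal.comap_isPrime j Q'') (fun b hb => hle ((hmV b).mpr hb)) ?_
    ext a
    rw [Ideal.mem_comap, Ideal.mem_comap, Ideal.mem_comap, hjA, ← hmW, ← hQW, Ideal.mem_comap]
  haveI := hQ''
  obtain ⟨q, hqp, hqle, hhq, hqW, halg⟩ := exists_prime_le_algebraic Wv B' hWbot Q'' hQW (j h)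
    (fun e => hh (hB ((congrArg Subtype.val e).trans (map_zero _).symm)))
  refine ⟨q.comap j, Ideal.comap_isPrime j q, fun b hb => hQ'eq ▸ (hqle hb : b ∈ Q''.comap j),
    hhq, le_bot_iff.mp fun a ha => ?_, fun R hR hle' hRbot => ?_⟩
  · rw [Ideal.mem_comap, Ideal.mem_comap, hjA, ← Ideal.mem_comap (f := algebraMap Wv B'), hqW,
      Ideal.mem_bot] at ha
    exact hφ ((congrArg (fun w : Wv => ((w : K) : L)) ha).trans (map_zero φ).symm)
  -- maximality from algebraicity
  haveI : Algebra.IsAlgebraic A Wv := by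
    refine ⟨fun w => ?_⟩
    obtain ⟨x, hx, y, hy, e⟩ := Subfield.mem_closure_iff.mp (w : K).2
    rw [Subring.closure_eq] at hx hy
    obtain ⟨a, rfl⟩ := hx
    obtain ⟨b, rfl⟩ := hy
    rw [← isAlgebraic_algebraMap_iff hWL]
    by_cases hb : φ b = 0
    · rw [hb, div_zero] at e
      rw [show algebraMap Wv L w = 0 from e.symm]
      exact isAlgebraic_zero
    · refine ⟨Polynomial.C b * Polynomial.X - Polynomial.C a, fun h0 => hb ?_, ?_⟩
      · have := congrArg (fun p => Polynomial.coeff p 1) h0
        simp only [Polynomial.coeff_sub, Polynomial.coeff_C_mul, Polynomial.coeff_X_one, mul_one,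
          Polynomial.coeff_C_ne_zero one_ne_zero, sub_zero, Polynomial.coeff_zero] at this
        rw [this, map_zero]
      · rw [map_sub, map_mul, Polynomial.aeval_C, Polynomial.aeval_C, Polynomial.aeval_X,
          show algebraMap Wv L w = φ a / φ b from e.symm,
          show algebraMap A L b = φ b from IsScalarTower.algebraMap_apply A B L b,
          show algebraMap A L a = φ a from IsScalarTower.algebraMap_apply A B L a,
          mul_div_cancel₀ _ hb, sub_self]
  by_contra hne'
  obtain ⟨b, hbR, hbq⟩ : ∃ b ∈ R, b ∉ q.comap j := by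
    by_contra! h'
    exact hne' (le_antisymm h' hle')
  haveI := hqp
  haveI : (q.comap j).IsPrime := Ideal.comap_isPrime j q
  let f : B ⧸ q.comap j →+* B' ⧸ q := Ideal.quotientMap q j le_rfl
  have hf : Function.Injective f := Ideal.quotientMap_injective
  have hfA : ∀ a : A, f (algebraMap A _ a) = algebraMap A (B' ⧸ q) a := fun a =>
    congrArg (Ideal.Quotient.mk q) (Subtype.ext (IsScalarTower.algebraMap_apply A B L a).symm)
  have h1 : IsAlgebraic A (Ideal.Quotient.mk (q.comap j) b) :=
    (isAlgebraic_algHom_iff (⟨f, hfA⟩ : (B ⧸ q.comap j) →ₐ[A] B' ⧸ q) hf).mp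
      ((halg.isAlgebraic _).restrictScalars A)
  have h2 := Ideal.comap_ne_bot_of_algebraic_mem (R := A)
    (I := R.map (Ideal.Quotient.mk (q.comap j)))
    (by rw [Ne, Ideal.Quotient.eq_zero_iff_mem]; exact hbq)
    (Ideal.mem_map_of_mem _ hbR) h1
  refine h2 ?_
  rw [← hRbot]
  ext a
  rw [Ideal.mem_comap, Ideal.mem_comap, IsScalarTower.algebraMap_apply A B (B ⧸ q.comap j),
    Ideal.Quotient.algebraMap_eq, Ideal.mem_quotient_iff_mem hle']

set_option synthInstance.maxHeartbeats 200000 in
/-- The general case. -/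
theorem exists_closed_between {A B : Type u} [CommRing A] [CommRing B] [Algebra A B]
    [Algebra.FiniteType A B] (Q Q' : Ideal B) [Q.IsPrime] [Q'.IsPrime] (hle : Q ≤ Q')
    (hne : Q.comap (algebraMap A B) ≠ Q'.comap (algebraMap A B))
    (hmax : ∀ R : Ideal B, R.IsPrime → Q' ≤ R →
      R.comap (algebraMap A B) = Q'.comap (algebraMap A B) → R = Q')
    (h : B) (hh : h ∉ Q) :
    ∃ Q₁ : Ideal B, Q₁.IsPrime ∧ Q ≤ Q₁ ∧ Q₁ ≤ Q' ∧ h ∉ Q₁ ∧
      Q₁.comap (algebraMap A B) = Q.comap (algebraMap A B) ∧
      ∀ R : Ideal B, R.IsPrime → Q₁ ≤ R →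
        R.comap (algebraMap A B) = Q.comap (algebraMap A B) → R = Q₁ := by
  set P := Q.comap (algebraMap A B)
  haveI : P.IsPrime := Ideal.comap_isPrime _ _
  letI : Algebra (A ⧸ P) (B ⧸ Q) := Ideal.Quotient.algebraQuotientOfLEComap le_rfl
  haveI : IsScalarTower A (A ⧸ P) (B ⧸ Q) := IsScalarTower.of_algebraMap_eq fun _ => rfl
  haveI : Algebra.FiniteType A (B ⧸ Q) := inferInstance
  haveI : Algebra.FiniteType (A ⧸ P) (B ⧸ Q) :=
    Algebra.FiniteType.of_restrictScalars_finiteType A (A ⧸ P) (B ⧸ Q)
  haveI : FaithfulSMul (A ⧸ P) (B ⧸ Q) :=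
    (faithfulSMul_iff_algebraMap_injective _ _).mpr Ideal.quotientMap_injective
  let π := Ideal.Quotient.mk Q
  have hker : RingHom.ker π = Q := Ideal.mk_ker
  have hbase : ∀ (I : Ideal B), Q ≤ I → ∀ a : A,
      (Ideal.Quotient.mk P a ∈ (I.map π).comap (algebraMap (A ⧸ P) (B ⧸ Q)) ↔
        a ∈ I.comap (algebraMap A B)) := fun I hI a => by
    rw [Ideal.mem_comap, Ideal.mem_comap]
    exact Ideal.mem_quotient_iff_mem hI
  haveI : (Q'.map π).IsPrime :=
    Ideal.map_isPrime_of_surjective Ideal.Quotient.mk_surjective (by rwa [hker])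
  obtain ⟨T, hT, hTle, hTh, hTbot, hTmax⟩ := exists_closed_between_domain (A ⧸ P) (B ⧸ Q)
    (Q'.map π) (fun e => hne (by
      refine le_antisymm (Ideal.comap_mono hle) fun a ha => ?_
      have := (hbase Q' hle a).mpr ha
      rw [e, Ideal.mem_bot, Ideal.Quotient.eq_zero_iff_mem] at this
      exact this)) (fun R hR hle' e => by
      have h1 : R.comap π = Q' := by
        refine hmax _ (Ideal.comap_isPrime π R) (Ideal.map_le_iff_le_comap.mp hle') ?_
        ext a
        rw [← hbase Q' hle a, ← e, Ideal.mem_comap, Ideal.mem_comap, Ideal.mem_comap]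
        rfl
      rw [← h1, Ideal.map_comap_of_surjective π Ideal.Quotient.mk_surjective])
    (π h) (by rwa [Ne, Ideal.Quotient.eq_zero_iff_mem])
  refine ⟨T.comap π, Ideal.comap_isPrime π T, ?_, ?_, hTh, ?_, fun R hR hR₁ e => ?_⟩
  · intro b hb
    rw [Ideal.mem_comap, Ideal.Quotient.eq_zero_iff_mem.mpr hb]
    exact T.zero_mem
  · intro b hb
    exact (Ideal.mem_quotient_iff_mem hle).mp (hTle hb)
  · ext a
    have := Ideal.ext_iff.mp hTbot (Ideal.Quotient.mk P a)
    rw [Ideal.mem_comap, Ideal.mem_bot, Ideal.Quotient.eq_zero_iff_mem] at this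
    exact this
  · have hQR : Q ≤ R := fun b hb => hR₁ (by
      rw [Ideal.mem_comap, Ideal.Quotient.eq_zero_iff_mem.mpr hb]; exact T.zero_mem)
    haveI := hR
    have h1 : R.map π = T := hTmax _
      (Ideal.map_isPrime_of_surjective Ideal.Quotient.mk_surjective (by rwa [hker]))
      (by
        rw [← Ideal.map_comap_of_surjective π Ideal.Quotient.mk_surjective T]
        exact Ideal.map_mono hR₁)
      (eq_bot_iff.mpr fun x hx => by
        obtain ⟨a, rfl⟩ := Ideal.Quotient.mk_surjective x
        rw [Ideal.mem_bot, Ideal.Quotient.eq_zero_iff_mem]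
        exact e ▸ (hbase R hQR a).mp hx)
    rw [← h1, Ideal.comap_map_of_surjective' π Ideal.Quotient.mk_surjective, hker,
      sup_eq_left.mpr hQR]

end Groth.Agent.SpecDense
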