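import Groth.Agent.SpecDense.Valuation

/-!
# The key algebraic step of the density of intermediate closed points
-/

universe u

open Polynomial IsLocalRing TensorProduct

namespace Groth.Agent.SpecDense

set_option autoImplicit false

/-- If `B/JB`-generators are finitely many over `P` and `J ≤ p`, the fibre at `p` is finite. -/
theorem finite_fiber_of_finite_quotient {P B F : Type u} [CommRing P] [CommRing B] [Algebra P B]
    [CommRing F] [Algebra P F] [Module.Finite P F] (π : B →ₐ[P] F) (hπ : Function.Surjective π)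
    (p : Ideal P) [p.IsPrime]
    (hker : ∀ b, π b = 0 → b ∈ p.map (algebraMap P B)) :
    Module.Finite p.ResidueField (p.Fiber B) := by
  classical
  obtain ⟨s, hs⟩ := (inferInstance : Module.Finite P F).fg_top
  choose g hg using hπ
  refine ⟨⟨s.image fun x => (1 : p.ResidueField) ⊗ₜ[P] g x, eq_top_iff.mpr fun z _ => ?_⟩⟩
  set M := Submodule.span p.ResidueField
    (↑(s.image fun x => (1 : p.ResidueField) ⊗ₜ[P] g x) : Set (p.Fiber B))
  have h0 : ∀ b, b ∈ p.map (algebraMap P B) → ((1 : p.ResidueField) ⊗ₜ[P] b : p.Fiber B) = 0 := by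
    intro b hb
    have : p.map (algebraMap P B) ≤
        RingHom.ker (Algebra.TensorProduct.includeRight : B →ₐ[P] p.Fiber B).toRingHom := by
      rw [Ideal.map_le_iff_le_comap]
      intro x hx
      simp only [Ideal.mem_comap, RingHom.mem_ker, AlgHom.toRingHom_eq_coe, RingHom.coe_coe,
        AlgHom.commutes]
      rw [IsScalarTower.algebraMap_apply P p.ResidueField (p.Fiber B),
        Ideal.algebraMap_residueField_eq_zero.mpr hx, map_zero]
    exact this hb
  have key : ∀ b : B, ((1 : p.ResidueField) ⊗ₜ[P] b : p.Fiber B) ∈ M := by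
    intro b
    have hmem : π b ∈ Submodule.span P (s : Set F) := hs ▸ Submodule.mem_top
    obtain ⟨c, hc⟩ := Submodule.mem_span_finset'.mp hmem
    set b' : B := ∑ x : s, c x • g x
    have hb' : π (b - b') = 0 := by
      rw [map_sub, map_sum, sub_eq_zero, ← hc]
      exact Finset.sum_congr rfl fun x _ => by rw [map_smul, hg]
    have := h0 _ (hker _ hb')
    rw [TensorProduct.tmul_sub, sub_eq_zero] at this
    rw [this, TensorProduct.tmul_sum]
    refine M.sum_mem fun x _ => ?_
    rw [TensorProduct.tmul_smul, ← IsScalarTower.algebraMap_smul p.ResidueField (c x)]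
    exact M.smul_mem _ (Submodule.subset_span (Finset.mem_coe.mpr
      (Finset.mem_image_of_mem _ x.2)))
  induction z using TensorProduct.induction_on with
  | zero => exact M.zero_mem
  | add a b ha hb => exact M.add_mem (ha trivial) (hb trivial)
  | tmul a b =>
    rw [show (a ⊗ₜ[P] b : p.Fiber B) = a • ((1 : p.ResidueField) ⊗ₜ[P] b) by
      rw [TensorProduct.smul_tmul', smul_eq_mul, mul_one]]
    exact M.smul_mem _ (key b)

/-- A nonzero polynomial over a field does not vanish on translates of a point by an infinite set. -/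
theorem exists_eval_ne_zero {R : Type u} [CommRing R] [IsDomain R] {σ : Type*} [Finite σ]
    (a : σ → R) (M : Set R) (hM : M.Infinite) (f : MvPolynomial σ R) (hf : f ≠ 0) :
    ∃ x : σ → R, (∀ i, x i - a i ∈ M) ∧ MvPolynomial.eval x f ≠ 0 := by
  by_contra! h
  refine hf (MvPolynomial.funext_set (fun i => (fun x => a i + x) '' M)
    (fun i => hM.image ((add_right_injective (a i)).injOn)) fun x hx => ?_)
  rw [map_zero]
  refine h x fun i => ?_
  obtain ⟨m, hm, e⟩ := hx i (Set.mem_univ i)
  rw [← e]
  simpa using hm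

set_option synthInstance.maxHeartbeats 200000 in
set_option maxHeartbeats 1600000 in
/-- The key algebraic statement. -/
theorem exists_prime_le_algebraic (W B : Type u) [CommRing W] [IsDomain W] [ValuationRing W]
    (hW : maximalIdeal W ≠ ⊥) [CommRing B] [IsDomain B] [Algebra W B] [FaithfulSMul W B]
    [Algebra.FiniteType W B] (Q : Ideal B) [Q.IsMaximal]
    (hQ : Q.comap (algebraMap W B) = maximalIdeal W) (h : B) (hh : h ≠ 0) :
    ∃ q : Ideal B, q.IsPrime ∧ q ≤ Q ∧ h ∉ q ∧ q.comap (algebraMap W B) = ⊥ ∧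
      Algebra.IsAlgebraic W (B ⧸ q) := by
  classical
  -- the special fibre and its normalisation
  set m := maximalIdeal W
  let k := ResidueField W
  let mB := m.map (algebraMap W B)
  let F := B ⧸ mB
  have hmQ : mB ≤ Q := Ideal.map_le_iff_le_comap.mpr hQ.ge
  letI : Algebra k F := Ideal.Quotient.algebraQuotientOfLEComap Ideal.le_comap_map
  haveI : IsScalarTower W k F := IsScalarTower.of_algebraMap_eq fun _ => rfl
  haveI : Algebra.FiniteType k F := Algebra.FiniteType.of_restrictScalars_finiteType W k F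
  haveI : Nontrivial F :=
    Ideal.Quotient.nontrivial_iff.mpr fun e => ‹Q.IsMaximal›.ne_top (top_le_iff.mp (e ▸ hmQ))
  obtain ⟨d, gbar, ginj, gfin⟩ := exists_finite_inj_algHom_of_fg k F
  choose t ht using fun i => Ideal.Quotient.mk_surjective (I := mB) (gbar (MvPolynomial.X i))
  let P := MvPolynomial (Fin d) W
  let φ : P →ₐ[W] B := MvPolynomial.aeval t
  let red : P →+* MvPolynomial (Fin d) k := MvPolynomial.map (residue W)
  have hsq : (Ideal.Quotient.mk mB).comp φ.toRingHom = gbar.toRingHom.comp red := by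
    refine MvPolynomial.ringHom_ext (fun w => ?_) (fun i => ?_)
    · refine (congrArg (Ideal.Quotient.mk mB) (MvPolynomial.aeval_C t w)).trans ?_
      refine Eq.trans ?_ (congrArg gbar (MvPolynomial.map_C (residue W) w)).symm
      exact (gbar.commutes (residue W w)).symm
    · refine (congrArg (Ideal.Quotient.mk mB) (MvPolynomial.aeval_X t i)).trans ?_
      exact ((ht i).trans (congrArg gbar (MvPolynomial.map_X (residue W) i)).symm)
  -- injectivity
  have φinj : Function.Injective φ := by
    refine (injective_iff_map_eq_zero _).mpr fun f hf => ?_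
    by_contra hf0
    obtain ⟨c, f₀, hc, rfl, hf₀⟩ := exists_primitive_part f hf0
    rw [map_mul] at hf
    have hc' : φ (MvPolynomial.C c) ≠ 0 := by
      intro e
      refine hc ((FaithfulSMul.algebraMap_injective W B) ?_)
      rw [map_zero, ← e]
      exact (MvPolynomial.aeval_C t c).symm
    have h0 : φ f₀ = 0 := (mul_eq_zero.mp hf).resolve_left hc'
    refine hf₀ (ginj ?_)
    have := RingHom.congr_fun hsq f₀
    simp only [RingHom.comp_apply, AlgHom.toRingHom_eq_coe, RingHom.coe_coe, h0, map_zero] at this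
    rw [← this, map_zero]
  letI : Algebra P B := φ.toRingHom.toAlgebra
  haveI : IsScalarTower W P B := IsScalarTower.of_algebraMap_eq fun w => (φ.commutes w).symm
  haveI : FaithfulSMul P B := (faithfulSMul_iff_algebraMap_injective _ _).mpr φinj
  haveI : Algebra.FiniteType P B := Algebra.FiniteType.of_restrictScalars_finiteType W P B
  haveI : IsIntegrallyClosed P := Unibranch.isIntegrallyClosed_mvPolynomial_fin d
  -- the point below `Q`
  let P' := Q.comap (algebraMap P B)
  haveI hP' : P'.IsPrime := inferInstanceAs (Ideal.comap _ Q).IsPrime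
  haveI : Q.LiesOver P' := ⟨rfl⟩
  have hmP : ∀ w ∈ m, algebraMap W P w ∈ P' := fun w hw => by
    rw [Ideal.mem_comap, ← IsScalarTower.algebraMap_apply W P B]
    exact hQ.ge hw
  haveI : Module.Finite P F := by
    have h1 : (algebraMap P F).Finite := by
      have e : algebraMap P F = gbar.toRingHom.comp red := hsq
      rw [e]
      exact RingHom.Finite.comp gfin (RingHom.Finite.of_surjective red (MvPolynomial.map_surjective _
        residue_surjective))
    exact h1
  haveI : Module.Finite P'.ResidueField (P'.Fiber B) := by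
    refine finite_fiber_of_finite_quotient (Ideal.Quotient.mkₐ P mB)
      Ideal.Quotient.mk_surjective P' fun b hb => ?_
    rw [Ideal.Quotient.mkₐ_eq_mk, Ideal.Quotient.eq_zero_iff_mem] at hb
    refine Ideal.map_le_iff_le_comap.mpr (fun w hw => ?_) hb
    rw [Ideal.mem_comap, IsScalarTower.algebraMap_apply W P B]
    exact Ideal.mem_map_of_mem _ (hmP w hw)
  haveI hqf : Algebra.QuasiFiniteAt P Q := by
    let e := PrimeSpectrum.preimageHomeomorphFiber P B ⟨P', hP'⟩
    let z : PrimeSpectrum B := ⟨Q, inferInstance⟩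
    haveI : Algebra.QuasiFiniteAt P'.ResidueField (e ⟨z, rfl⟩).asIdeal :=
      Algebra.QuasiFinite.of_isLocalization (e ⟨z, rfl⟩).asIdeal.primeCompl
    exact Algebra.QuasiFiniteAt.of_quasiFiniteAt_residueField P' Q (e ⟨z, rfl⟩).asIdeal
      congr($(e.symm_apply_apply ⟨z, rfl⟩).1.asIdeal)
  obtain ⟨r, hrQ, hrint, hden⟩ := Algebra.zariskisMainProperty_iff.mp
    (Algebra.ZariskisMainProperty.of_finiteType (R := P) Q)
  let C := integralClosure P B
  haveI : Algebra.IsIntegral P C := IsIntegralClosure.isIntegral_algebra P B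
  haveI : FaithfulSMul P C := (faithfulSMul_iff_algebraMap_injective _ _).mpr
    fun a b e => φinj (congrArg Subtype.val e)
  have hr0 : r ≠ 0 := fun e => hrQ (e ▸ Q.zero_mem)
  obtain ⟨mh, hmh⟩ := hden h
  let rC : C := ⟨r, hrint⟩
  let hC : C := ⟨_, hmh⟩
  -- a nonzero base element in the ideal generated by `r * h`
  have hrh : rC * hC ≠ 0 := mul_ne_zero (fun e => hr0 (congrArg Subtype.val e))
    (fun e => mul_ne_zero (pow_ne_zero _ hr0) hh (congrArg Subtype.val e))
  obtain ⟨c₀, hc₀, hc₀0⟩ := Submodule.exists_mem_ne_zero_of_ne_bot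
    (Ideal.comap_ne_bot_of_integral_mem (R := P) (I := Ideal.span {rC * hC}) hrh
      (Ideal.mem_span_singleton_self _) (Algebra.IsIntegral.isIntegral _))
  rw [Ideal.mem_comap, Ideal.mem_span_singleton] at hc₀
  -- a point with values in an absolutely integrally closed valuation ring
  let K := AlgebraicClosure (FractionRing W)
  have hWK : Function.Injective (algebraMap W K) :=
    IsScalarTower.algebraMap_eq W (FractionRing W) K ▸
      (algebraMap (FractionRing W) K).injective.comp (IsFractionRing.injective W (FractionRing W))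
  haveI : Algebra.IsAlgebraic W K :=
    haveI : Algebra.IsAlgebraic W (FractionRing W) := IsLocalization.isAlgebraic _ (nonZeroDivisors W)
    Algebra.IsAlgebraic.trans W (FractionRing W) K
  obtain ⟨A, hA, hAloc⟩ := IsLocalRing.exists_factor_valuationRing (algebraMap W K)
  let ι : W →+* A := (algebraMap W K).codRestrict A.toSubring hA
  haveI : IsLocalHom ι := hAloc
  haveI := isAlgClosed_residue A
  let k' := ResidueField A
  letI : Algebra k k' := (ResidueField.map ι).toAlgebra
  -- an embedding of the residue field of `Q`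
  let Qbar : Ideal F := Q.map (Ideal.Quotient.mk mB)
  haveI : Qbar.IsMaximal := Ideal.IsMaximal.map_of_surjective_of_ker_le
    Ideal.Quotient.mk_surjective (by rwa [Ideal.mk_ker])
  letI : Field (F ⧸ Qbar) := Ideal.Quotient.field Qbar
  haveI : Module.Finite k (F ⧸ Qbar) := finite_of_finite_type_of_isJacobsonRing k (F ⧸ Qbar)
  haveI : Algebra.IsAlgebraic k (F ⧸ Qbar) := Algebra.IsAlgebraic.of_finite k (F ⧸ Qbar)
  let emb : (F ⧸ Qbar) →ₐ[k] k' := IsAlgClosed.lift
  let ψ : B →+* k' := emb.toRingHom.comp ((Ideal.Quotient.mk Qbar).comp (Ideal.Quotient.mk mB))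
  have hψW : ∀ w, ψ (algebraMap W B w) = residue A (ι w) := fun w => emb.commutes (residue W w)
  have hψker : ∀ b, ψ b = 0 ↔ b ∈ Q := fun b => by
    simp only [ψ, RingHom.comp_apply, AlgHom.toRingHom_eq_coe, RingHom.coe_coe]
    rw [map_eq_zero, Ideal.Quotient.eq_zero_iff_mem,
      Ideal.mem_quotient_iff_mem hmQ]
  choose a ha using fun i => residue_surjective (ψ (t i))
  -- choose the lift avoiding `c₀`
  have hιinj : Function.Injective ι := fun x y e => hWK (congrArg Subtype.val e)
  have hMinf : ((maximalIdeal A : Ideal A) : Set A).Infinite := by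
    obtain ⟨w, hw, hw0⟩ := Submodule.exists_mem_ne_zero_of_ne_bot hW
    have hw' : ι w ∈ maximalIdeal A := map_nonunit ι w hw
    refine Set.infinite_of_injective_forall_mem (f := fun n : ℕ => ι w ^ (n + 1)) ?_
      fun n => Ideal.pow_mem_of_mem _ hw' _ n.succ_pos
    intro i j e
    have := (pow_inj_of_not_isUnit (mem_nonunits_iff.mp hw')
      (fun e => hw0 (hιinj (e.trans (map_zero ι).symm))) (m := i + 1) (n := j + 1)).mp e
    omega
  obtain ⟨x, hx, hx0⟩ := exists_eval_ne_zero a _ hMinf (MvPolynomial.map ι c₀)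
    (fun e => hc₀0 (MvPolynomial.map_injective ι hιinj (e.trans (map_zero _).symm)))
  let χ : P →+* A := MvPolynomial.eval₂Hom ι x
  have hχ : (residue A).comp χ = ψ.comp (algebraMap P B) := by
    refine MvPolynomial.ringHom_ext (fun w => ?_) (fun i => ?_)
    · simp only [RingHom.comp_apply, χ, MvPolynomial.eval₂Hom_C]
      rw [← hψW]
      exact congrArg ψ (IsScalarTower.algebraMap_apply W P B w)
    · simp only [RingHom.comp_apply, χ, MvPolynomial.eval₂Hom_X']
      rw [show algebraMap P B (MvPolynomial.X i) = t i from MvPolynomial.aeval_X t i, ← ha]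
      exact (Ideal.Quotient.mk_eq_mk_iff_sub_mem _ _).mpr (hx i)
  let q₀ : Ideal P := RingHom.ker χ
  haveI : q₀.IsPrime := RingHom.ker_isPrime χ
  have hq₀le : q₀ ≤ P' := fun z hz => by
    rw [Ideal.mem_comap, ← hψker]
    have := RingHom.congr_fun hχ z
    simp only [RingHom.comp_apply, RingHom.mem_ker.mp hz, map_zero] at this
    exact this.symm
  have hc₀q : c₀ ∉ q₀ := fun e => hx0 (by
    rw [← MvPolynomial.eval₂_eq_eval_map]; exact RingHom.mem_ker.mp e)
  -- going down
  let QC : Ideal C := Q.comap (algebraMap C B)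
  haveI : QC.LiesOver P' := ⟨by
    ext z
    simp [QC, P', Ideal.mem_comap, Ideal.under_def, ← IsScalarTower.algebraMap_apply P C B]⟩
  obtain ⟨qC, hqle, hqC, hqover⟩ := Ideal.exists_ideal_le_liesOver_of_le (p := q₀) (q := P') QC hq₀le
  haveI := hqC
  have hrhq : rC * hC ∉ qC := fun e => hc₀q (by
    rw [hqover.over, Ideal.under_def, Ideal.mem_comap]
    obtain ⟨z, hz⟩ := hc₀
    rw [hz]
    exact qC.mul_mem_right _ e)
  have hrq : rC ∉ qC := fun e => hrhq (qC.mul_mem_right _ e)
  obtain ⟨q, hq, hqcomap, hqmem⟩ := exists_prime_over_of_denominator C.toSubring r hrint hden qC hrq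
  have hq' : ∀ c : C, (c : B) ∈ q ↔ c ∈ qC := fun c => Ideal.ext_iff.mp hqcomap c
  have hbot : q.comap (algebraMap W B) = ⊥ := by
    refine le_bot_iff.mp fun w hw => ?_
    have h1 : algebraMap W P w ∈ q₀ := by
      rw [hqover.over, Ideal.under_def, Ideal.mem_comap, ← hq']
      rw [Ideal.mem_comap, IsScalarTower.algebraMap_apply W P B] at hw
      exact hw
    have h2 : ι w = 0 := by
      have := RingHom.mem_ker.mp h1
      exact (MvPolynomial.eval₂Hom_C ι x w).symm.trans this
    exact hιinj (h2.trans (map_zero ι).symm)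
  refine ⟨q, hq, fun b hb => ?_, fun e => hrhq (qC.mul_mem_left _ ((hq' hC).mp
    (q.mul_mem_left _ e))), hbot, ?_⟩
  · obtain ⟨n, c, hc, e⟩ := hqmem b hb
    have : r ^ n * b ∈ Q := e ▸ hqle hc
    exact (Ideal.IsPrime.mem_or_mem inferInstance this).resolve_left
      fun h' => hrQ (Ideal.IsPrime.mem_of_pow_mem inferInstance _ h')
  -- algebraicity
  haveI : q.IsPrime := hq
  haveI : q.LiesOver q₀ := ⟨by
    ext z
    rw [Ideal.under_def, Ideal.mem_comap, hqover.over, Ideal.under_def, Ideal.mem_comap, ← hq']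
    rfl⟩
  haveI : Algebra.IsAlgebraic W (P ⧸ q₀) := by
    let χ' : P →ₐ[W] K :=
      { (A.subtype).comp χ with
        commutes' := fun w => congrArg Subtype.val (MvPolynomial.eval₂Hom_C ι x w) }
    let e : (P ⧸ q₀) →ₐ[W] K := Ideal.Quotient.liftₐ q₀ χ' fun z hz => by
      show (A.subtype) (χ z) = 0
      rw [RingHom.mem_ker.mp hz, map_zero]
    have einj : Function.Injective e := by
      refine (injective_iff_map_eq_zero _).mpr fun z => ?_
      obtain ⟨z, rfl⟩ := Ideal.Quotient.mk_surjective z
      intro hz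
      rw [Ideal.Quotient.eq_zero_iff_mem, RingHom.mem_ker]
      exact Subtype.val_injective hz
    exact ⟨fun z => (isAlgebraic_algHom_iff e einj).mp (Algebra.IsAlgebraic.isAlgebraic _)⟩
  refine ⟨fun z => ?_⟩
  obtain ⟨b, rfl⟩ := Ideal.Quotient.mk_surjective z
  have halg : ∀ c : B, IsIntegral P c → IsAlgebraic W (Ideal.Quotient.mk q c) := by
    intro c hc
    have h1 : IsIntegral P (Ideal.Quotient.mk q c) := hc.map (Ideal.Quotient.mkₐ P q)
    have h2 : IsIntegral (P ⧸ q₀) (Ideal.Quotient.mk q c) := h1.tower_top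
    exact (h2.isAlgebraic).restrictScalars W
  obtain ⟨n, hn⟩ := hden b
  refine isAlgebraic_of_pow_mul (r := Ideal.Quotient.mk q r) ?_ (halg r hrint) n ?_
  · rw [Ne, Ideal.Quotient.eq_zero_iff_mem]
    exact fun e => hrq ((hq' rC).mp e)
  · rw [← map_pow, ← map_mul]
    exact halg _ hn

end Groth.Agent.SpecDense
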